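import Groth.Agent.Lib.GeomRed6.Scheme

/-!
# Reduced and geometrically reduced fibres of a morphism near the generic point
-/

universe u

open CategoryTheory Limits AlgebraicGeometry TopologicalSpace
open scoped TensorProduct

set_option linter.style.haveILetI false

noncomputable section

namespace GrothLib.GeomRed6

variable {X Y : Scheme.{u}}

theorem exists_factor {F : Type u} [Field F] (t : Spec (CommRingCat.of F) ⟶ Y) :
    ∃ σ : Spec (CommRingCat.of F) ⟶ Spec (Y.residueField (pt t)), σ ≫ Y.fromSpecResidueField (pt t) = t :=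
  ⟨_, Scheme.descResidueField_stalkClosedPointTo_fromSpecResidueField F Y t⟩

theorem exists_isPullback_fiber_point (f : X ⟶ Y) {F : Type u} [Field F] (t : Spec (CommRingCat.of F) ⟶ Y) :
    ∃ (σ : Spec (CommRingCat.of F) ⟶ Spec (Y.residueField (pt t))) (π : pullback f t ⟶ f.fiber (pt t)),
      IsPullback π (pullback.snd f t) (f.fiberToSpecResidueField (pt t)) σ := by
  obtain ⟨σ, hσ⟩ := exists_factor t
  let π : pullback f t ⟶ f.fiber (pt t) :=
    pullback.lift (pullback.fst f t) (pullback.snd f t ≫ σ) (by rw [Category.assoc, hσ]; exact pullback.condition)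
  refine ⟨σ, π, IsPullback.of_right ?_ (pullback.lift_snd _ _ _) (IsPullback.of_hasPullback f (Y.fromSpecResidueField (pt t)))⟩
  rw [show π ≫ pullback.fst f (Y.fromSpecResidueField (pt t)) = pullback.fst f t from pullback.lift_fst _ _ _, hσ]
  exact IsPullback.of_hasPullback f t

/-- A reduced pullback to some field point over `y` forces a reduced fibre. -/
theorem isReduced_fiber_of_pullback (f : X ⟶ Y) {y : Y} {F : Type u} [Field F]
    (t : Spec (CommRingCat.of F) ⟶ Y) (ht : pt t = y) (h : IsReduced (pullback f t)) : IsReduced (f.fiber y) := by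
  subst ht
  obtain ⟨σ, π, hπ⟩ := exists_isPullback_fiber_point f t
  have : Surjective σ := ⟨fun _ => ⟨IsLocalRing.closedPoint F, Subsingleton.elim (α := Spec (Y.residueField (pt t))) _ _⟩⟩
  have : Flat σ := GrothLib.CurveLocus.flat_to_spec_field (k := Y.residueField (pt t)) σ
  haveI : Surjective π := MorphismProperty.of_isPullback hπ.flip ‹Surjective σ›
  haveI : Flat π := MorphismProperty.of_isPullback hπ.flip ‹Flat σ›
  exact GrothLib.CurveLocus.isReduced_of_flat_of_surjective π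

theorem geometricallyReduced_fiber_iff (f : X ⟶ Y) (y : Y) :
    GeometricallyReduced (f.fiberToSpecResidueField y) ↔
      ∀ (F : Type u) [Field F] [IsAlgClosed F] (t : Spec (CommRingCat.of F) ⟶ Y), pt t = y →
        IsReduced (pullback f t) := by
  rw [GrothLib.CurveLocus.geometricallyReduced_iff]
  constructor
  · intro h F _ _ t ht
    subst ht
    obtain ⟨σ, π, hπ⟩ := exists_isPullback_fiber_point f t
    exact h F σ _ π (pullback.snd f t) hπ
  · intro h Ω _ _ t X' i q hsq
    have h1 := hsq.paste_horiz (IsPullback.of_hasPullback f (Y.fromSpecResidueField y))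
    have := h Ω (t ≫ Y.fromSpecResidueField y)
      (Y.fromSpecResidueField_apply y (t (IsLocalRing.closedPoint Ω)))
    exact isReduced_of_isOpenImmersion h1.isoPullback.hom

/-- Reducedness of a pullback to a field point can be checked on affine pieces. -/
theorem isReduced_pullback_iff_pieces (f : X ⟶ Y) {V : Y.Opens} {ι : Type*} (W : ι → X.Opens)
    (hW : ∀ i, W i ≤ f ⁻¹ᵁ V) (hcov : f ⁻¹ᵁ V ≤ ⨆ i, W i) {F : Type u} [Field F]
    (t₀ : Spec (CommRingCat.of F) ⟶ V.toScheme) :
    IsReduced (pullback f (t₀ ≫ V.ι)) ↔ ∀ i, IsReduced (pullback (f.resLE V (W i) (hW i)) t₀) := by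
  let t := t₀ ≫ V.ι
  let O : ι → (pullback f t).Opens := fun i => pullback.fst f t ⁻¹ᵁ W i
  have hiso : ∀ i, Nonempty ((O i : Scheme) ≅ pullback (f.resLE V (W i) (hW i)) t₀) := fun i => by
    have h1 := ((IsPullback.of_hasPullback (pullback.fst f t) (W i).ι).flip).paste_vert
      ((IsPullback.of_hasPullback f t).flip.flip)
    have h2 : IsPullback (pullback.snd (pullback.fst f t) (W i).ι)
        (pullback.fst (pullback.fst f t) (W i).ι ≫ pullback.snd f t) (f.resLE V (W i) (hW i)) t₀ := by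
      refine ⟨⟨?_⟩, ⟨PullbackCone.IsLimit.mk _ (fun s => h1.lift s.fst s.snd ?_) (fun s => h1.lift_fst _ _ _)
        (fun s => h1.lift_snd _ _ _) fun s m hm₁ hm₂ => h1.hom_ext (by rw [hm₁, h1.lift_fst]) (by rw [hm₂, h1.lift_snd])⟩⟩
      · rw [← cancel_mono V.ι, Category.assoc, f.resLE_comp_ι, Category.assoc]
        exact h1.w
      · rw [← f.resLE_comp_ι (hW i), ← Category.assoc, s.condition, Category.assoc]
    exact ⟨(pullbackRestrictIsoRestrict (pullback.fst f t) (W i)).symm ≪≫ h2.isoPullback⟩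
  have hcover : IsOpenCover O := IsOpenCover.mk (top_le_iff.1 fun x _ => by
    have hx : pullback.fst f t x ∈ f ⁻¹ᵁ V := by
      show f (pullback.fst f t x) ∈ V
      rw [← Scheme.Hom.comp_apply, pullback.condition]
      show V.ι (t₀ (pullback.snd f t x)) ∈ V
      exact (t₀ (pullback.snd f t x)).2
    obtain ⟨i, hi⟩ := Opens.mem_iSup.mp (hcov hx)
    exact Opens.mem_iSup.mpr ⟨i, hi⟩)
  rw [AlgebraicGeometry.IsReduced.iff_of_openCover (X := pullback f t) ((pullback f t).openCoverOfIsOpenCover O hcover)]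
  refine forall_congr' fun i => ?_
  obtain ⟨e⟩ := hiso i
  exact ⟨fun h => haveI : IsReduced (O i : Scheme) := h; isReduced_of_isOpenImmersion e.inv,
    fun h => isReduced_of_isOpenImmersion e.hom⟩

theorem exists_geomRed_dichotomy_affine {X S : Scheme.{u}} (f : X ⟶ S) [IsAffine X] [IsAffine S]
    [LocallyOfFiniteType f] [IrreducibleSpace S] :
    ∃ U : Set S, IsOpen U ∧ U.Nonempty ∧
      ((∀ (F : Type u) [Field F] [IsAlgClosed F] (t : Spec (CommRingCat.of F) ⟶ S), pt t ∈ U →
          IsReduced (pullback f t)) ∨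
        ∀ (F : Type u) [Field F] [IsAlgClosed F] (t : Spec (CommRingCat.of F) ⟶ S), pt t ∈ U →
          ¬ IsReduced (pullback f t)) := by
  letI := f.appTop.hom.toAlgebra
  have : Algebra.FiniteType Γ(S, ⊤) Γ(X, ⊤) :=
    HasRingHomProperty.appTop @LocallyOfFiniteType f inferInstance
  haveI : IrreducibleSpace (PrimeSpectrum Γ(S, ⊤)) := by
    show IrreducibleSpace (Spec Γ(S, ⊤))
    rw [irreducibleSpace_def, Set.top_eq_univ, ← S.isoSpec.hom.surjective.range_eq, ← Set.image_univ]
    exact (IrreducibleSpace.isIrreducible_univ _).image _ S.isoSpec.hom.continuous.continuousOn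
  obtain ⟨U, hU, ⟨q, hq⟩, h⟩ := exists_geomRed_dichotomy Γ(S, ⊤) Γ(X, ⊤)
  obtain ⟨s, hs⟩ := S.isoSpec.hom.surjective q
  refine ⟨S.isoSpec.hom ⁻¹' U, hU.preimage S.isoSpec.hom.continuous,
    ⟨s, show S.isoSpec.hom s ∈ U by rw [hs]; exact hq⟩, ?_⟩
  rcases h with h | h
  · refine Or.inl fun F _ _ t ht => ?_
    obtain ⟨alg, -, hker, hiff⟩ := isReduced_pullback_iff_affine f t
    letI := alg
    exact hiff.mpr (h F (by
      rw [show (⟨RingHom.ker (algebraMap Γ(S, ⊤) F), RingHom.ker_isPrime _⟩ : PrimeSpectrum Γ(S, ⊤)) =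
        S.isoSpec.hom (pt t) from PrimeSpectrum.ext hker]
      exact ht))
  · refine Or.inr fun F _ _ t ht hred => ?_
    obtain ⟨alg, -, hker, hiff⟩ := isReduced_pullback_iff_affine f t
    letI := alg
    exact h F (by
      rw [show (⟨RingHom.ker (algebraMap Γ(S, ⊤) F), RingHom.ker_isPrime _⟩ : PrimeSpectrum Γ(S, ⊤)) =
        S.isoSpec.hom (pt t) from PrimeSpectrum.ext hker]
      exact ht) (hiff.mp hred)

theorem exists_factor_open {F : Type u} [Field F] (t : Spec (CommRingCat.of F) ⟶ Y) {V : Y.Opens}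
    (h : pt t ∈ V) : ∃ t₀ : Spec (CommRingCat.of F) ⟶ V.toScheme, t₀ ≫ V.ι = t := by
  refine ⟨IsOpenImmersion.lift V.ι t ?_, IsOpenImmersion.lift_fac _ _ _⟩
  rintro _ ⟨z, rfl⟩
  rw [Scheme.Opens.range_ι, Subsingleton.elim (α := Spec (CommRingCat.of F)) z (IsLocalRing.closedPoint F)]
  exact h

/-- **Near the generic point geometric reducedness of the fibres is constant.** -/
theorem exists_geomRed_constant (f : X ⟶ Y) [LocallyOfFiniteType f] [QuasiCompact f] [IrreducibleSpace Y] :
    ∃ V : Y.Opens, (V : Set Y).Nonempty ∧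
      ((∀ y ∈ V, GeometricallyReduced (f.fiberToSpecResidueField y)) ∨
        ∀ y ∈ V, ¬ GeometricallyReduced (f.fiberToSpecResidueField y)) := by
  obtain ⟨_, ⟨(V : Y.Opens), hV, rfl⟩, hη, -⟩ := Y.isBasis_affineOpens.exists_subset_of_mem_open
    (Set.mem_univ (genericPoint Y)) isOpen_univ
  obtain ⟨ι, _, W, hWa, hW, hcov⟩ := GrothLib.FibreDim6.exists_finite_cover f hV
  haveI : IsAffine V := hV
  haveI : Nonempty V.toScheme := ⟨⟨_, hη⟩⟩
  haveI : IrreducibleSpace V.toScheme := V.ι.isOpenEmbedding.irreducibleSpace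
  have h : ∀ i, ∃ U : Set V.toScheme, IsOpen U ∧ U.Nonempty ∧
      ((∀ (F : Type u) [Field F] [IsAlgClosed F] (t : Spec (CommRingCat.of F) ⟶ V.toScheme), pt t ∈ U →
          IsReduced (pullback (f.resLE V (W i) (hW i)) t)) ∨
        ∀ (F : Type u) [Field F] [IsAlgClosed F] (t : Spec (CommRingCat.of F) ⟶ V.toScheme), pt t ∈ U →
          ¬ IsReduced (pullback (f.resLE V (W i) (hW i)) t)) := fun i => by
    haveI : IsAffine (W i) := hWa i
    exact exists_geomRed_dichotomy_affine _
  choose U hU hne hd using h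
  let U₀ : Set V.toScheme := ⋂ i, U i
  have hmem : (⟨genericPoint Y, hη⟩ : V.toScheme) ∈ U₀ := Set.mem_iInter.mpr fun i => by
    obtain ⟨w, hw, hwe⟩ := ((genericPoint_spec Y).mem_open_set_iff (V.ι.isOpenEmbedding.isOpenMap _ (hU i))).mpr
      (by obtain ⟨z, hz⟩ := hne i; exact ⟨V.ι z, trivial, z, hz, rfl⟩)
    rwa [show (⟨genericPoint Y, hη⟩ : V.toScheme) = w from V.ι.isOpenEmbedding.injective hwe.symm]
  refine ⟨⟨V.ι '' U₀, V.ι.isOpenEmbedding.isOpenMap _ (isOpen_iInter_of_finite hU)⟩, ⟨_, _, hmem, rfl⟩, ?_⟩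
  have hfac : ∀ (F : Type u) [Field F] (t : Spec (CommRingCat.of F) ⟶ Y) (s : V.toScheme), pt t = V.ι s →
      ∃ t₀ : Spec (CommRingCat.of F) ⟶ V.toScheme, t₀ ≫ V.ι = t ∧ pt t₀ = s := fun F _ t s hts => by
    obtain ⟨t₀, ht₀⟩ := exists_factor_open t (V := V) (hts ▸ s.2)
    refine ⟨t₀, ht₀, V.ι.isOpenEmbedding.injective ?_⟩
    rw [← hts, ← ht₀]
    rfl
  by_cases hall : ∀ i, ∀ (F : Type u) [Field F] [IsAlgClosed F] (t : Spec (CommRingCat.of F) ⟶ V.toScheme),
      pt t ∈ U i → IsReduced (pullback (f.resLE V (W i) (hW i)) t)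
  · refine Or.inl ?_
    rintro _ ⟨s, hs, rfl⟩
    refine (geometricallyReduced_fiber_iff f _).mpr fun F _ _ t ht => ?_
    obtain ⟨t₀, rfl, ht₀⟩ := hfac F t s ht
    exact (isReduced_pullback_iff_pieces f W hW hcov t₀).mpr fun i =>
      hall i F t₀ (by rw [ht₀]; exact Set.mem_iInter.mp hs i)
  · refine Or.inr ?_
    obtain ⟨i, hi⟩ := not_forall.mp hall
    have hi' := (hd i).resolve_left hi
    rintro _ ⟨s, hs, rfl⟩ hgr
    let σ := Spec.map (CommRingCat.ofHom
      (algebraMap (V.toScheme.residueField s) (AlgebraicClosure (V.toScheme.residueField s))))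
    let t₀ : Spec (CommRingCat.of (AlgebraicClosure (V.toScheme.residueField s))) ⟶ V.toScheme :=
      σ ≫ V.toScheme.fromSpecResidueField s
    have ht₀ : pt t₀ = s := V.toScheme.fromSpecResidueField_apply s (σ (IsLocalRing.closedPoint _))
    exact hi' _ t₀ (by rw [ht₀]; exact Set.mem_iInter.mp hs i)
      ((isReduced_pullback_iff_pieces f W hW hcov t₀).mp
        ((geometricallyReduced_fiber_iff f _).mp hgr _ (t₀ ≫ V.ι) (congrArg V.ι ht₀)) i)

/-- A non reduced generic fibre gives non reduced nearby fibres. -/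
theorem exists_not_isReduced_near (f : X ⟶ Y) [LocallyOfFiniteType f] [QuasiCompact f] [IrreducibleSpace Y]
    (h : ¬ IsReduced (f.fiber (genericPoint Y))) :
    ∃ V : Y.Opens, (V : Set Y).Nonempty ∧ ∀ y ∈ V, ¬ IsReduced (f.fiber y) := by
  obtain ⟨_, ⟨(V : Y.Opens), hV, rfl⟩, hη, -⟩ := Y.isBasis_affineOpens.exists_subset_of_mem_open
    (Set.mem_univ (genericPoint Y)) isOpen_univ
  obtain ⟨ι, _, W, hWa, hW, hcov⟩ := GrothLib.FibreDim6.exists_finite_cover f hV
  haveI : IsAffine V := hV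
  haveI : Nonempty V.toScheme := ⟨⟨_, hη⟩⟩
  haveI : IrreducibleSpace V.toScheme := V.ι.isOpenEmbedding.irreducibleSpace
  let A := Γ(V.toScheme, ⊤)
  haveI : IrreducibleSpace (PrimeSpectrum A) := by
    show IrreducibleSpace (Spec Γ(V.toScheme, ⊤))
    rw [irreducibleSpace_def, Set.top_eq_univ, ← V.toScheme.isoSpec.hom.surjective.range_eq, ← Set.image_univ]
    exact (IrreducibleSpace.isIrreducible_univ _).image _ V.toScheme.isoSpec.hom.continuous.continuousOn
  let p : PrimeSpectrum A := V.toScheme.isoSpec.hom ⟨genericPoint Y, hη⟩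
  let τ : Spec (CommRingCat.of p.asIdeal.ResidueField) ⟶ Spec Γ(V.toScheme, ⊤) :=
    Spec.map (CommRingCat.ofHom (algebraMap A p.asIdeal.ResidueField))
  let t₁ : Spec (CommRingCat.of p.asIdeal.ResidueField) ⟶ V.toScheme := τ ≫ V.toScheme.isoSpec.inv
  have ht₁ : pt t₁ = (⟨genericPoint Y, hη⟩ : V.toScheme) := by
    have hτ : τ (IsLocalRing.closedPoint p.asIdeal.ResidueField) = p := by
      refine PrimeSpectrum.ext ?_
      show Ideal.comap (algebraMap A p.asIdeal.ResidueField) (IsLocalRing.maximalIdeal _) = p.asIdeal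
      rw [IsLocalRing.maximalIdeal_eq_bot, ← RingHom.ker_eq_comap_bot]
      ext x
      exact Ideal.algebraMap_residueField_eq_zero
    show V.toScheme.isoSpec.inv (τ _) = _
    rw [hτ]
    show V.toScheme.isoSpec.inv (V.toScheme.isoSpec.hom _) = _
    rw [← Scheme.Hom.comp_apply, Iso.hom_inv_id]
    rfl
  have hbad : ¬ IsReduced (pullback f (t₁ ≫ V.ι)) := fun hr =>
    h (isReduced_fiber_of_pullback f (t₁ ≫ V.ι) (congrArg V.ι ht₁) hr)
  obtain ⟨i, hi⟩ := not_forall.mp fun hall => hbad ((isReduced_pullback_iff_pieces f W hW hcov t₁).mpr hall)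
  haveI : IsAffine (W i) := hWa i
  let f' := f.resLE V (W i) (hW i)
  letI := f'.appTop.hom.toAlgebra
  have : Algebra.FiniteType A Γ((W i).toScheme, ⊤) :=
    HasRingHomProperty.appTop @LocallyOfFiniteType f' inferInstance
  have hsurj : ∀ x : p.asIdeal.ResidueField, ∃ a b : A, algebraMap A p.asIdeal.ResidueField b ≠ 0 ∧
      algebraMap A p.asIdeal.ResidueField b * x = algebraMap A p.asIdeal.ResidueField a := fun x => by
    obtain ⟨⟨u, v⟩, hxy⟩ := IsLocalization.surj (nonZeroDivisors (A ⧸ p.asIdeal)) x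
    obtain ⟨b, hb⟩ := Ideal.Quotient.mk_surjective v.1
    obtain ⟨a, ha⟩ := Ideal.Quotient.mk_surjective u
    have e : ∀ z : A, algebraMap A p.asIdeal.ResidueField z =
        algebraMap (A ⧸ p.asIdeal) p.asIdeal.ResidueField (Ideal.Quotient.mk p.asIdeal z) :=
      fun z => IsScalarTower.algebraMap_apply A (A ⧸ p.asIdeal) p.asIdeal.ResidueField z
    refine ⟨a, b, fun h0 => nonZeroDivisors.coe_ne_zero v (hb ▸ Ideal.Quotient.eq_zero_iff_mem.mpr
      (Ideal.algebraMap_residueField_eq_zero.mp h0)), ?_⟩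
    rw [e b, e a, ha, hb, mul_comm, hxy]
  let κA : A →+* p.asIdeal.ResidueField := algebraMap A p.asIdeal.ResidueField
  obtain ⟨alg, hval, hker, hiff⟩ := isReduced_pullback_iff_affine f' t₁
  have hφ : @algebraMap A p.asIdeal.ResidueField _ _ alg = κA := by
    rw [hval, show t₁ ≫ V.toScheme.isoSpec.hom = τ by simp [t₁]]
    exact congrArg CommRingCat.Hom.hom (Spec.preimage_map _)
  have hgen : p.asIdeal = nilradical A := by
    have hN : (nilradical A).IsPrime := PrimeSpectrum.irreducibleSpace_iff_isPrime_nilradical.mp ‹_›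
    have h1 : IsGenericPoint (⟨genericPoint Y, hη⟩ : V.toScheme) Set.univ := by
      refine isGenericPoint_iff_specializes.mpr fun z => iff_of_true ?_ (Set.mem_univ z)
      exact V.ι.isOpenEmbedding.isInducing.specializes_iff.mp (genericPoint_specializes _)
    have h2 : IsGenericPoint p (Set.univ : Set (PrimeSpectrum A)) := by
      have := h1.image V.toScheme.isoSpec.hom.continuous
      refine this.def.trans ?_
      rw [Set.image_univ]
      exact V.toScheme.isoSpec.hom.surjective.denseRange.closure_range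
    have h3 : IsGenericPoint (⟨nilradical A, hN⟩ : PrimeSpectrum A) (Set.univ : Set (PrimeSpectrum A)) := by
      rw [IsGenericPoint, ← PrimeSpectrum.zeroLocus_vanishingIdeal_eq_closure]
      simp
    exact congrArg PrimeSpectrum.asIdeal (h2.eq h3)
  have hmain : ¬ _root_.IsReduced (@TensorProduct A _ p.asIdeal.ResidueField Γ((W i).toScheme, ⊤) _ _
      (@Algebra.toModule _ _ _ _ alg) _) := fun hr => hi (hiff.mpr hr)
  obtain ⟨U, hU, ⟨q, hq⟩, hnot⟩ := @exists_notRed A Γ((W i).toScheme, ⊤) _ _ _ _ _ p.asIdeal.ResidueField _ alg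
    (by rw [hker, show pt t₁ = (⟨genericPoint Y, hη⟩ : V.toScheme) from ht₁]; exact hgen)
    (fun x => by obtain ⟨a, b, h1, h2⟩ := hsurj x; exact ⟨a, b, fun h0 => h1 ((DFunLike.congr_fun hφ b).symm.trans h0), (congrArg (fun z : p.asIdeal.ResidueField => z * x) (DFunLike.congr_fun hφ b)).trans (h2.trans (DFunLike.congr_fun hφ a).symm)⟩) hmain
  let U' : Set V.toScheme := V.toScheme.isoSpec.hom ⁻¹' U
  obtain ⟨s₀, hs₀⟩ := V.toScheme.isoSpec.hom.surjective q
  refine ⟨⟨V.ι '' U', V.ι.isOpenEmbedding.isOpenMap _ (hU.preimage V.toScheme.isoSpec.hom.continuous)⟩,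
    ⟨_, s₀, show V.toScheme.isoSpec.hom s₀ ∈ U by rw [hs₀]; exact hq, rfl⟩, ?_⟩
  rintro _ ⟨s, hs, rfl⟩ hred
  obtain ⟨t₀, ht₀⟩ := exists_factor_open (Y.fromSpecResidueField (V.ι s)) (V := V)
    (by rw [show pt (Y.fromSpecResidueField (V.ι s)) = V.ι s from Y.fromSpecResidueField_apply _ _]; exact s.2)
  have hpt : pt t₀ = s := V.ι.isOpenEmbedding.injective (by
    conv_rhs => rw [← Y.fromSpecResidueField_apply (V.ι s) (IsLocalRing.closedPoint (Y.residueField (V.ι s))), ← ht₀]
    rfl)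
  have hr : IsReduced (pullback f (t₀ ≫ V.ι)) := by rw [ht₀]; exact hred
  obtain ⟨alg₀, -, hker₀, hiff₀⟩ := isReduced_pullback_iff_affine f' t₀
  letI : Algebra A (Y.residueField (V.ι s)) := alg₀
  exact hnot (Y.residueField (V.ι s)) (by
    rw [show (⟨RingHom.ker (algebraMap A (Y.residueField (V.ι s))), RingHom.ker_isPrime _⟩ : PrimeSpectrum A) =
      V.toScheme.isoSpec.hom (pt t₀) from PrimeSpectrum.ext hker₀, hpt]
    exact hs) (hiff₀.mp ((isReduced_pullback_iff_pieces f W hW hcov t₀).mp hr i))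

end GrothLib.GeomRed6
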