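import Groth.Agent.Lib.GeomRed6.Fibres
import Groth.Agent.Lib.FibreDim6.Spread
import Groth.Agent.Lib.Approx6.Stage

/-!
# The locus of geometrically reduced fibres is constructible
-/

universe u

open CategoryTheory Limits AlgebraicGeometry TopologicalSpace Set.Notation

set_option linter.style.haveILetI false

noncomputable section

namespace GrothLib.GeomRed6

variable {X Y : Scheme.{u}}

theorem geometricallyReduced_of_fibres (f : X ⟶ Y)
    (h : ∀ y, GeometricallyReduced (f.fiberToSpecResidueField y)) : GeometricallyReduced f :=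
  (GrothLib.CurveLocus.geometricallyReduced_iff f).mpr fun Ω _ _ t _ _ _ hsq => by
    haveI := (geometricallyReduced_fiber_iff f (pt t)).mp (h _) Ω t rfl
    exact isReduced_of_isOpenImmersion hsq.isoPullback.hom

theorem geometricallyReduced_morphismRestrict (f : X ⟶ Y) (V : Y.Opens)
    (h : ∀ y ∈ V, GeometricallyReduced (f.fiberToSpecResidueField y)) : GeometricallyReduced (f ∣_ V) :=
  geometricallyReduced_of_fibres _ fun s =>
    (GrothLib.FibreBC.geometricallyReduced_fiber_iff (isPullback_morphismRestrict f V).flip s).mpr (h _ s.2)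

/-- On a Noetherian base the locus is constructible. -/
theorem isConstructible_geomRed_noetherian (f : X ⟶ Y) [NoetherianSpace Y] [LocallyOfFiniteType f]
    [QuasiCompact f] : Topology.IsConstructible {y | GeometricallyReduced (f.fiberToSpecResidueField y)} := by
  have H := (GrothLib.NoethTop.constructible_function_of_forall
    (h := fun y => GeometricallyReduced (f.fiberToSpecResidueField y)) fun Z hZ hi => ?_).1 True
  · convert H using 1
    ext y
    simp
  · let Zc : Closeds Y := ⟨Z, hZ⟩
    let i := GrothLib.FibreDim6.redSub Zc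
    have hrange : Set.range i = Z := GrothLib.FibreDim6.range_redSub Zc
    haveI : IrreducibleSpace (Scheme.IdealSheafData.vanishingIdeal Zc).subscheme := by
      have e := i.isClosedEmbedding.isEmbedding.toHomeomorph
      haveI : IrreducibleSpace (Set.range i) := Subtype.irreducibleSpace (hrange.symm ▸ hi)
      rw [irreducibleSpace_def, Set.top_eq_univ, ← e.symm.surjective.range_eq, ← Set.image_univ]
      exact (IrreducibleSpace.isIrreducible_univ _).image _ e.symm.continuous.continuousOn
    obtain ⟨V, ⟨s₀, hs₀⟩, hV⟩ := exists_geomRed_constant (pullback.snd f i)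
    obtain ⟨U, hU, hUV⟩ := i.isClosedEmbedding.isInducing.isOpen_iff.mp V.2
    refine ⟨U, hU, ⟨i s₀, show i s₀ ∈ U from hUV.symm.subset hs₀, hrange.subset ⟨s₀, rfl⟩⟩, ?_⟩
    rintro a ⟨haU, haZ⟩ b ⟨hbU, hbZ⟩
    obtain ⟨a, rfl⟩ := hrange.symm.subset haZ
    obtain ⟨b, rfl⟩ := hrange.symm.subset hbZ
    have hbc := fun s => GrothLib.FibreBC.geometricallyReduced_fiber_iff (IsPullback.of_hasPullback f i) s
    have ha : a ∈ (V : Set _) := hUV.subset haU
    have hb : b ∈ (V : Set _) := hUV.subset hbU
    refine propext ?_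
    rw [← hbc a, ← hbc b]
    rcases hV with hV | hV
    · exact iff_of_true (hV a ha) (hV b hb)
    · exact iff_of_false (hV a ha) (hV b hb)

theorem isConstructible_geomRed_affine {X S : Scheme.{u}} (f : X ⟶ S) [IsAffine X] [IsAffine S]
    [LocallyOfFinitePresentation f] :
    Topology.IsConstructible {s | GeometricallyReduced (f.fiberToSpecResidueField s)} := by
  letI := f.appTop.hom.toAlgebra
  have := GrothLib.Approx6.finitePresentation_appTop f
  obtain ⟨A₀, B₀, _, _, hA, -, hB, ⟨e⟩⟩ := GrothLib.Approx6.exists_model Γ(S, ⊤) Γ(X, ⊤) ∅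
  have : Algebra.FiniteType ℤ A₀ := A₀.fg_iff_finiteType.mp hA
  have : IsNoetherianRing A₀ := Algebra.FiniteType.isNoetherianRing ℤ A₀
  haveI := GrothLib.Approx6.locallyOfFiniteType_map (A₀ := A₀) (B₀ := B₀)
  obtain ⟨g, g', h⟩ := GrothLib.Approx6.isPullback_model f A₀ B₀ e
  rw [show {s | GeometricallyReduced (f.fiberToSpecResidueField s)} =
    g ⁻¹' {p | GeometricallyReduced ((Spec.map (CommRingCat.ofHom (algebraMap A₀ B₀))).fiberToSpecResidueField p)} from
    Set.ext fun s => GrothLib.FibreBC.geometricallyReduced_fiber_iff h s]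
  exact g.isConstructible_preimage (isConstructible_geomRed_noetherian _)

/-- Geometric reducedness of a fibre is checked on affine pieces. -/
theorem geometricallyReduced_fiber_iff_pieces (f : X ⟶ Y) {V : Y.Opens} {ι : Type*} (W : ι → X.Opens)
    (hW : ∀ i, W i ≤ f ⁻¹ᵁ V) (hcov : f ⁻¹ᵁ V ≤ ⨆ i, W i) (s : V.toScheme) :
    GeometricallyReduced (f.fiberToSpecResidueField (V.ι s)) ↔
      ∀ i, GeometricallyReduced ((f.resLE V (W i) (hW i)).fiberToSpecResidueField s) := by
  simp only [geometricallyReduced_fiber_iff]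
  constructor
  · intro h i F _ _ t₀ ht₀
    exact (isReduced_pullback_iff_pieces f W hW hcov t₀).mp (h F (t₀ ≫ V.ι) (congrArg V.ι ht₀)) i
  · intro h F _ _ t ht
    obtain ⟨t₀, rfl⟩ := exists_factor_open t (V := V) (by rw [ht]; exact s.2)
    exact (isReduced_pullback_iff_pieces f W hW hcov t₀).mpr fun i =>
      h i F t₀ (V.ι.isOpenEmbedding.injective ht)

theorem isLocallyConstructible_geomRed (f : X ⟶ Y) [QuasiCompact f] [LocallyOfFinitePresentation f] :
    Topology.IsLocallyConstructible {y | GeometricallyReduced (f.fiberToSpecResidueField y)} := by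
  intro y
  obtain ⟨_, ⟨(V : Y.Opens), hV, rfl⟩, hy, -⟩ := Y.isBasis_affineOpens.exists_subset_of_mem_open
    (Set.mem_univ y) isOpen_univ
  obtain ⟨ι, _, W, hWa, hW, hcov⟩ := GrothLib.FibreDim6.exists_finite_cover f hV
  haveI : IsAffine V := hV
  have h : ∀ i, Topology.IsConstructible
      {s | GeometricallyReduced ((f.resLE V (W i) (hW i)).fiberToSpecResidueField s)} := fun i => by
    haveI : IsAffine (W i) := hWa i
    exact isConstructible_geomRed_affine _
  refine ⟨(V : Set Y), V.2.mem_nhds hy, V.2, ?_⟩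
  rw [show ((V : Set Y) ↓∩ {y | GeometricallyReduced (f.fiberToSpecResidueField y)}) =
    (⋃ i ∈ (Set.univ : Set ι),
      {s | GeometricallyReduced ((f.resLE V (W i) (hW i)).fiberToSpecResidueField s)}ᶜ)ᶜ from ?_]
  swap
  · refine Set.ext fun s => ?_
    show GeometricallyReduced (f.fiberToSpecResidueField (V.ι s)) ↔ s ∈ (_)ᶜ
    rw [geometricallyReduced_fiber_iff_pieces f W hW hcov s]
    refine ⟨fun hall hm => ?_, fun hn i => not_not.mp fun hc => hn (Set.mem_biUnion (Set.mem_univ i) hc)⟩
    obtain ⟨i, -, hi⟩ := Set.mem_iUnion₂.mp hm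
    exact hi (hall i)
  exact (GrothLib.FibreDim6.isConstructible_biUnion Set.finite_univ fun i _ => (h i).compl).compl

end GrothLib.GeomRed6
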