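import Groth.Agent.Lib.GeomRed6.Nilp
import Groth.Agent.Lib.SepField.Smooth
import Mathlib.RingTheory.Smooth.Locus
import Mathlib.RingTheory.Etale.Field
import Mathlib.AlgebraicGeometry.Morphisms.Smooth
import Groth.Agent.Lib.Rigidity.SmoothGroup

/-!
# Geometrically reduced generic fibres give geometrically reduced nearby fibres
-/

universe u

open TensorProduct

set_option linter.style.haveILetI false

noncomputable section

namespace GrothLib.GeomRed6

theorem isReduced_of_smooth_field (F S : Type u) [Field F] [CommRing S] [Algebra F S] [Algebra.Smooth F S] :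
    IsReduced S := by
  haveI : AlgebraicGeometry.Smooth (AlgebraicGeometry.Spec.map (CommRingCat.ofHom (algebraMap F S))) := by
    rw [AlgebraicGeometry.HasRingHomProperty.Spec_iff (P := @AlgebraicGeometry.Smooth)]
    exact RingHom.smooth_algebraMap.mpr ‹_›
  haveI : AlgebraicGeometry.IsReduced (AlgebraicGeometry.Spec (CommRingCat.of S)) :=
    GrothLib.Rigidity.isReduced_of_smooth (K := F) (AlgebraicGeometry.Spec.map (CommRingCat.ofHom (algebraMap F S)))
  exact (AlgebraicGeometry.affine_isReduced_iff (CommRingCat.of S)).1 inferInstance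

/-- Minimal primes of a flat algebra with geometrically reduced generic fibre are smooth points. -/
theorem isSmoothAt_minimalPrime (A B K Ω : Type u) [CommRing A] [IsDomain A] [CommRing B] [Algebra A B]
    [Module.Flat A B] [IsReduced B] [Field K] [Algebra A K] [IsFractionRing A K] [Field Ω] [Algebra K Ω]
    [Algebra A Ω] [IsScalarTower A K Ω] [IsAlgClosure K Ω] [IsReduced (Ω ⊗[A] B)]
    (q : Ideal B) [q.IsPrime] (hq : q ∈ minimalPrimes B) : Algebra.IsSmoothAt A q := by
  let L := Localization.AtPrime q
  have hLf : IsField L := by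
    haveI : Ring.KrullDimLE 0 L := by
      rw [Ring.krullDimLE_zero_iff]
      intro Q hQ
      have h : Q.comap (algebraMap B L) = q := by
        have hle : Q.comap (algebraMap B L) ≤ q :=
          ((IsLocalization.AtPrime.orderIsoOfPrime L q) ⟨Q, hQ⟩).2.2
        exact le_antisymm hle (hq.2 ⟨Ideal.IsPrime.comap _, bot_le⟩ hle)
      have : Q = IsLocalRing.maximalIdeal L := by
        rw [← IsLocalization.map_comap q.primeCompl L Q]
        exact (congrArg (Ideal.map (algebraMap B L)) h).trans (Localization.AtPrime.map_eq_maximalIdeal)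
      exact this ▸ IsLocalRing.maximalIdeal.isMaximal L
    exact Ring.KrullDimLE.isField_of_isReduced
  let _ : Field L := hLf.toField
  have hinj : ∀ a : A, a ≠ 0 → algebraMap A L a ≠ 0 := fun a ha h0 => by
    rw [IsScalarTower.algebraMap_apply A B L] at h0
    obtain ⟨⟨s, hs⟩, hsa⟩ := (IsLocalization.map_eq_zero_iff q.primeCompl L _).mp h0
    have hsa' : a • s = 0 := by rw [Algebra.smul_def, mul_comm]; exact hsa
    have : Function.Injective fun x : B => a • x := by
      have h := Module.Flat.rTensor_preserves_injective_linearMap (M := B) (LinearMap.lsmul A A a)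
        (fun x y hxy => mul_left_cancel₀ ha hxy)
      intro x y hxy
      refine (TensorProduct.lid A B).symm.injective (h ?_)
      simp only [TensorProduct.lid_symm_apply, LinearMap.rTensor_tmul, LinearMap.lsmul_apply]
      rw [TensorProduct.smul_tmul, TensorProduct.smul_tmul]
      exact congrArg ((1 : A) ⊗ₜ[A] ·) hxy
    exact hs (this (hsa'.trans (smul_zero a).symm) ▸ q.zero_mem)
  let lK : K →+* L := IsLocalization.lift (M := nonZeroDivisors A) (g := algebraMap A L)
    fun y => isUnit_iff_ne_zero.mpr (hinj y (nonZeroDivisors.ne_zero y.2))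
  letI : Algebra K L := lK.toAlgebra
  haveI : IsScalarTower A K L := IsScalarTower.of_algebraMap_eq fun z => (IsLocalization.lift_eq _ z).symm
  haveI hred : IsReduced (Ω ⊗[A] L) := by
    let M := q.primeCompl.map (Algebra.TensorProduct.includeRight (R := A) (A := Ω) (B := B))
    let e := IsLocalization.tensorProductEquivOfMapIncludeRight A Ω q.primeCompl L (Localization M)
    haveI : IsReduced (Localization M) := isReduced_localizationPreserves M _ inferInstance
    exact isReduced_of_injective e e.injective
  haveI : IsReduced (Ω ⊗[K] L) := by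
    let incl : L →ₐ[K] Ω ⊗[A] L :=
      { (Algebra.TensorProduct.includeRight (R := A) (A := Ω) (B := L)).toRingHom with
        commutes' := fun c => by
          have : (Algebra.TensorProduct.includeRight (R := A) (A := Ω) (B := L)).toRingHom.comp (algebraMap K L) =
              algebraMap K (Ω ⊗[A] L) := by
            refine IsLocalization.ringHom_ext (nonZeroDivisors A) (RingHom.ext fun a => ?_)
            show Algebra.TensorProduct.includeRight (R := A) (A := Ω) (B := L) (algebraMap K L (algebraMap A K a)) = _
            rw [← IsScalarTower.algebraMap_apply, AlgHom.commutes]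
            exact IsScalarTower.algebraMap_apply A K (Ω ⊗[A] L) a
          exact congr($this c) }
    let θ : Ω ⊗[K] L →ₐ[K] Ω ⊗[A] L :=
      Algebra.TensorProduct.lift (IsScalarTower.toAlgHom K Ω _) incl fun _ _ => .all _ _
    let θ' : Ω ⊗[A] L →ₐ[A] Ω ⊗[K] L :=
      Algebra.TensorProduct.lift (IsScalarTower.toAlgHom A Ω _)
        ((Algebra.TensorProduct.includeRight (R := K) (A := Ω) (B := L)).restrictScalars A) fun _ _ => .all _ _
    have h : ∀ x, θ' (θ x) = x := fun x => by
      induction x using TensorProduct.induction_on with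
      | zero => simp
      | add a b ha hb => simp only [map_add, ha, hb]
      | tmul c l => simp [θ, θ', incl, Algebra.TensorProduct.tmul_mul_tmul]
    exact isReduced_of_injective θ (Function.LeftInverse.injective h)
  haveI : Algebra.IsGeometricallyReduced K L := by
    rw [Algebra.isGeometricallyReduced_field_iff]
    let e : AlgebraicClosure K ≃ₐ[K] Ω := IsAlgClosure.equiv K _ _
    exact isReduced_of_injective _ (Algebra.TensorProduct.congr e (AlgEquiv.refl (R := K) (A₁ := L))).injective
  haveI : Algebra.FormallySmooth K L := GrothLib.SepField.formallySmooth_iff_isGeometricallyReduced.mpr inferInstance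
  haveI : Algebra.FormallyEtale A K := Algebra.FormallyEtale.of_isLocalization (nonZeroDivisors A)
  exact Algebra.FormallySmooth.comp A K L

/-- The finitely presented case: a nonzerodivisor with smooth localisation stays one in nearby fibres. -/
theorem exists_geomReduced_near_fp (A B K Ω : Type u) [CommRing A] [IsDomain A] [CommRing B] [Algebra A B]
    [Algebra.FinitePresentation A B] [Module.Flat A B] [Field K] [Algebra A K] [IsFractionRing A K] [Field Ω]
    [Algebra K Ω] [Algebra A Ω] [IsScalarTower A K Ω] [IsAlgClosure K Ω] [IsReduced (Ω ⊗[A] B)] :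
    ∃ g : A, g ≠ 0 ∧ ∀ (F : Type u) [Field F] [Algebra A F], algebraMap A F g ≠ 0 → IsReduced (F ⊗[A] B) := by
  classical
  have hΩ : Function.Injective (algebraMap A Ω) := by
    rw [IsScalarTower.algebraMap_eq A K Ω, RingHom.coe_comp]
    exact (RingHom.injective _).comp (IsFractionRing.injective A K)
  have hincl : Function.Injective (Algebra.TensorProduct.includeRight (R := A) (A := Ω) (B := B)) :=
    Algebra.TensorProduct.includeRight_injective hΩ
  haveI : IsReduced B := isReduced_of_injective _ hincl
  haveI : IsNoetherianRing (Ω ⊗[A] B) := Algebra.FiniteType.isNoetherianRing Ω _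
  have hfin : (minimalPrimes B).Finite := by
    refine Set.Finite.subset ((minimalPrimes.finite_of_isNoetherianRing (Ω ⊗[A] B)).image
      (Ideal.comap (Algebra.TensorProduct.includeRight (R := A) (A := Ω) (B := B)).toRingHom)) ?_
    intro q hq
    exact Ideal.exists_minimalPrimes_comap_eq _ q (by
      rw [← RingHom.ker_eq_comap_bot, (RingHom.injective_iff_ker_eq_bot
        (Algebra.TensorProduct.includeRight (R := A) (A := Ω) (B := B)).toRingHom).1 hincl]
      exact hq)
  obtain ⟨J, hJ⟩ := (PrimeSpectrum.isClosed_iff_zeroLocus_ideal _).mp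
    (Algebra.isOpen_smoothLocus (R := A) (A := B)).isClosed_compl
  obtain ⟨h, hhJ, hhq⟩ : ∃ h ∈ J, ∀ q ∈ minimalPrimes B, h ∉ q := by
    by_contra hcon
    push Not at hcon
    obtain ⟨q, hq, hJq⟩ := (Ideal.subset_union_prime (s := hfin.toFinset) (f := id) ⊥ ⊥
      fun q hq _ _ => (hfin.mem_toFinset.mp hq).1.1).mp (fun x hx => by
        obtain ⟨q, hq, hxq⟩ := hcon x hx
        exact Set.mem_iUnion₂.mpr ⟨q, hfin.mem_toFinset.mpr hq, hxq⟩)
    have hq' := hfin.mem_toFinset.mp hq
    haveI : q.IsPrime := hq'.1.1
    have hmem : (⟨q, hq'.1.1⟩ : PrimeSpectrum B) ∈ (Algebra.smoothLocus A B)ᶜ := hJ.symm.subset hJq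
    exact hmem (isSmoothAt_minimalPrime A B K Ω q hq')
  have hreg : ∀ x : B, h * x = 0 → x = 0 := fun x hx => by
    refine (IsNilpotent.eq_zero ?_)
    rw [← mem_nilradical, nilradical, ← Ideal.sInf_minimalPrimes]
    refine Submodule.mem_sInf.mpr fun q hq => ?_
    exact (hq.1.1.mem_or_mem (show h * x ∈ q from hx.symm ▸ q.zero_mem)).resolve_left (hhq q hq)
  haveI : Algebra.Smooth A (Localization.Away h) := Algebra.basicOpen_subset_smoothLocus_iff_smooth.mp
    fun p hp => not_not.mp fun hn => hp (hJ.subset hn hhJ)
  obtain ⟨g, -, hg, hfC⟩ := GrothLib.GenFree.gf_of_finiteType (R := A) B (B ⧸ Ideal.span {h}) (1 : A) one_ne_zero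
  refine ⟨g, hg, fun F _ _ hF => ?_⟩
  haveI : Module.Free (Localization.Away g) (Localization.Away g ⊗[A] (B ⧸ Ideal.span {h})) := hfC.free_tensor _
  let e : B →ₗ[A] B := (LinearMap.mulLeft B h).restrictScalars A
  have hinj := GrothLib.FibreDim6.lTensor_injective_of_flat_away e
    ((Submodule.mkQ (Ideal.span {h})).restrictScalars A)
    (fun x y hxy => sub_eq_zero.mp (hreg _ (by rw [mul_sub, sub_eq_zero]; exact hxy)))
    (Submodule.mkQ_surjective _) (fun x => by
      constructor
      · intro hx
        obtain ⟨c, hc⟩ := Ideal.mem_span_singleton'.mp ((Submodule.Quotient.mk_eq_zero _).mp hx)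
        exact ⟨c, (mul_comm h c).trans hc⟩
      · rintro ⟨c, rfl⟩
        exact (Submodule.Quotient.mk_eq_zero _).mpr (Ideal.mul_mem_right c _ (Ideal.mem_span_singleton_self h)))
    g F (isUnit_iff_ne_zero.mpr hF)
  have hreg' : ∀ z : F ⊗[A] B, ((1 : F) ⊗ₜ[A] h) * z = 0 → z = 0 := fun z hz => by
    refine hinj (Eq.trans ?_ (map_zero _).symm)
    rw [← hz]
    clear hz
    induction z using TensorProduct.induction_on with
    | zero => simp
    | add a b ha hb => rw [map_add, ha, hb, mul_add]
    | tmul c l =>
      rw [Algebra.TensorProduct.tmul_mul_tmul, one_mul]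
      rfl
  let M := (Submonoid.powers h).map (Algebra.TensorProduct.includeRight (R := A) (A := F) (B := B))
  let eM := IsLocalization.tensorProductEquivOfMapIncludeRight A F (Submonoid.powers h) (Localization.Away h) (Localization M)
  haveI : IsReduced (F ⊗[A] Localization.Away h) := isReduced_of_smooth_field F _
  haveI : IsReduced (Localization M) := isReduced_of_injective eM.symm eM.symm.injective
  refine isReduced_of_injective (algebraMap (F ⊗[A] B) (Localization M)) ((injective_iff_map_eq_zero _).mpr fun z hz => ?_)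
  obtain ⟨⟨_, _, ⟨k, rfl⟩, rfl⟩, hk⟩ := (IsLocalization.map_eq_zero_iff M (Localization M) z).mp hz
  change ((1 : F) ⊗ₜ[A] (h ^ k)) * z = 0 at hk
  clear hz
  induction k with
  | zero => simpa [Algebra.TensorProduct.one_def.symm] using hk
  | succ k ih =>
    refine ih (hreg' _ ?_)
    rw [← mul_assoc, Algebra.TensorProduct.tmul_mul_tmul, one_mul, ← pow_succ']
    exact hk

/-- **Geometrically reduced generic fibres give geometrically reduced nearby fibres.** -/
theorem exists_geomReduced_near (A B : Type u) [CommRing A] [IsDomain A] [CommRing B] [Algebra A B]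
    [Algebra.FiniteType A B] [IsReduced (AlgebraicClosure (FractionRing A) ⊗[A] B)] :
    ∃ g : A, g ≠ 0 ∧ ∀ (F : Type u) [Field F] [Algebra A F], algebraMap A F g ≠ 0 → IsReduced (F ⊗[A] B) := by
  obtain ⟨g₀, -, hg₀, -, hfree, hfp, -⟩ :=
    GrothLib.GenFree.exists_free_and_finitePresentation (R := A) B B (1 : A) one_ne_zero
  let A₀ := Localization.Away g₀
  have hle : Submonoid.powers g₀ ≤ nonZeroDivisors A := powers_le_nonZeroDivisors_of_noZeroDivisors hg₀
  haveI : IsDomain A₀ := IsLocalization.isDomain_localization hle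
  haveI : Module.Flat A₀ (A₀ ⊗[A] B) := inferInstance
  let K := FractionRing A
  let Ω := AlgebraicClosure K
  have hu : IsUnit (algebraMap A Ω g₀) := isUnit_iff_ne_zero.mpr fun h => hg₀ <| by
    rw [IsScalarTower.algebraMap_apply A K Ω, map_eq_zero] at h
    exact IsFractionRing.injective A K (h.trans (map_zero _).symm)
  have huK : IsUnit (algebraMap A K g₀) := isUnit_iff_ne_zero.mpr fun h => hg₀
    (IsFractionRing.injective A K (h.trans (map_zero _).symm))
  letI : Algebra A₀ K := (IsLocalization.Away.lift (S := A₀) g₀ (g := algebraMap A K) huK).toAlgebra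
  haveI : IsScalarTower A A₀ K := IsScalarTower.of_algebraMap_eq fun z => (IsLocalization.Away.lift_eq g₀ huK z).symm
  haveI : IsFractionRing A₀ K :=
    IsFractionRing.isFractionRing_of_isDomain_of_isLocalization (Submonoid.powers g₀) A₀ K
  haveI : IsScalarTower A A₀ Ω := IsScalarTower.of_algebraMap_eq fun z => by
    rw [IsScalarTower.algebraMap_apply A₀ K Ω, ← IsScalarTower.algebraMap_apply A A₀ K,
      ← IsScalarTower.algebraMap_apply A K Ω]
  haveI : IsReduced (Ω ⊗[A₀] (A₀ ⊗[A] B)) :=
    isReduced_of_injective (Algebra.TensorProduct.cancelBaseChange A A₀ Ω Ω B)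
      (Algebra.TensorProduct.cancelBaseChange A A₀ Ω Ω B).injective
  obtain ⟨g₁, hg₁, hnear⟩ := exists_geomReduced_near_fp A₀ (A₀ ⊗[A] B) K Ω
  obtain ⟨⟨a, ⟨_, k, rfl⟩⟩, hga⟩ := IsLocalization.surj (Submonoid.powers g₀) g₁
  refine ⟨g₀ * a, mul_ne_zero hg₀ fun h => ?_, fun F _ _ hF => ?_⟩
  · rw [h, map_zero] at hga
    exact hg₁ ((IsLocalization.map_units A₀ (⟨g₀ ^ k, k, rfl⟩ : Submonoid.powers g₀)).mul_left_eq_zero.mp hga)
  · rw [map_mul] at hF
    have hu' : IsUnit (algebraMap A F g₀) := isUnit_iff_ne_zero.mpr (left_ne_zero_of_mul hF)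
    letI : Algebra A₀ F := (IsLocalization.Away.lift (S := A₀) g₀ (g := algebraMap A F) hu').toAlgebra
    haveI : IsScalarTower A A₀ F := IsScalarTower.of_algebraMap_eq fun z => (IsLocalization.Away.lift_eq g₀ hu' z).symm
    haveI := hnear F fun h => right_ne_zero_of_mul hF (by
      rw [IsScalarTower.algebraMap_apply A A₀ F, ← hga, map_mul, h, zero_mul])
    exact isReduced_of_injective (Algebra.TensorProduct.cancelBaseChange A A₀ F F B).symm
      (Algebra.TensorProduct.cancelBaseChange A A₀ F F B).symm.injective

end GrothLib.GeomRed6
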