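import Groth.Agent.Lib.FibreDim6.AvoidScheme
import Groth.Agent.Lib.FibreDim6.Equidim
import Groth.Agent.Lib.Approx6.Ring
import Mathlib.RingTheory.Nullstellensatz

/-!
# Non reduced generic fibres give non reduced nearby fibres
-/

universe u

open TensorProduct

set_option linter.style.haveILetI false

noncomputable section

namespace GrothLib.GeomRed6

/-- A nonzero algebra of finite type over an algebraically closed field has a rational point. -/
theorem nonempty_point (F R : Type u) [Field F] [IsAlgClosed F] [CommRing R] [Algebra F R]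
    [Algebra.FiniteType F R] [Nontrivial R] : Nonempty (R →ₐ[F] F) := by
  obtain ⟨m, hm⟩ := Ideal.exists_maximal R
  letI := Ideal.Quotient.field m
  haveI : Module.Finite F (R ⧸ m) := finite_of_finite_type_of_isJacobsonRing F _
  exact ⟨(IsAlgClosed.lift : (R ⧸ m) →ₐ[F] F).comp (Ideal.Quotient.mkₐ F m)⟩

/-- A nilpotent element which is nonzero in the generic fibre is nonzero in nearby fibres. -/
theorem exists_nilpotent_near (A B : Type u) [CommRing A] [IsDomain A] [CommRing B] [Algebra A B]
    [Algebra.FiniteType A B] (x : B) (hnil : IsNilpotent x)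
    (hx : ∀ a : A, a ≠ 0 → a • x ≠ 0) :
    ∃ g : A, g ≠ 0 ∧ ∀ (F : Type u) [Field F] [Algebra A F], algebraMap A F g ≠ 0 →
      ¬ IsReduced (F ⊗[A] B) := by
  let I : Ideal B := Ideal.span {x}
  obtain ⟨g₁, -, hg₁, hfC⟩ := GrothLib.GenFree.gf_of_finiteType (R := A) B (B ⧸ I) (1 : A) one_ne_zero
  obtain ⟨g, hd, hg, hfI⟩ := GrothLib.GenFree.gf_of_finiteType (R := A) B I g₁ hg₁
  refine ⟨g, hg, fun F _ _ hF hred => ?_⟩
  haveI : Module.Free (Localization.Away g) (Localization.Away g ⊗[A] (B ⧸ I)) := (hfC.mono hd).free_tensor _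
  haveI : Module.Free (Localization.Away g) (Localization.Away g ⊗[A] I) := hfI.free_tensor _
  have hu : IsUnit (algebraMap A F g) := isUnit_iff_ne_zero.mpr hF
  have hinj := GrothLib.FibreDim6.lTensor_injective_of_flat_away (I.subtype.restrictScalars A)
    ((Submodule.mkQ I).restrictScalars A) (Submodule.injective_subtype I) (Submodule.mkQ_surjective I)
    (LinearMap.exact_subtype_mkQ I) g F hu
  -- the tensor product with `I` is nonzero
  let L := Localization.Away g
  letI : Algebra L F := (IsLocalization.Away.lift g hu).toAlgebra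
  haveI : IsScalarTower A L F := IsScalarTower.of_algebraMap_eq fun z => (IsLocalization.Away.lift_eq g hu z).symm
  haveI : Nontrivial (L ⊗[A] I) := by
    refine ⟨⟨TensorProduct.mk A L I 1 ⟨x, Ideal.mem_span_singleton_self x⟩, 0, fun h => ?_⟩⟩
    haveI : IsLocalizedModule (Submonoid.powers g) (TensorProduct.mk A L I 1) := inferInstance
    obtain ⟨⟨_, m, rfl⟩, hm⟩ := (IsLocalizedModule.eq_zero_iff (Submonoid.powers g) (TensorProduct.mk A L I 1)).mp h
    exact hx (g ^ m) (pow_ne_zero m hg) (congrArg Subtype.val hm)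
  haveI : Nontrivial (F ⊗[A] I) := by
    let b := Module.Free.chooseBasis L (L ⊗[A] I)
    haveI := b.index_nonempty
    let b' : Module.Basis (Module.Free.ChooseBasisIndex L (L ⊗[A] I)) F (F ⊗[A] I) :=
      (b.baseChange F).map (AlgebraTensorModule.cancelBaseChange A L F F I)
    exact b'.repr.toEquiv.nontrivial
  obtain ⟨v, hv⟩ := exists_ne (0 : F ⊗[A] I)
  -- every element of it maps to a multiple of `1 ⊗ x`
  have hmul : ∀ w : F ⊗[A] I, ∃ c : F ⊗[A] B,
      (I.subtype.restrictScalars A).lTensor F w = c * ((1 : F) ⊗ₜ[A] x) := by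
    intro w
    induction w using TensorProduct.induction_on with
    | zero => exact ⟨0, by simp⟩
    | add a b ha hb =>
      obtain ⟨c, hc⟩ := ha
      obtain ⟨d, hd⟩ := hb
      exact ⟨c + d, by rw [map_add, hc, hd, add_mul]⟩
    | tmul k i =>
      obtain ⟨r, hr⟩ := Ideal.mem_span_singleton'.mp i.2
      exact ⟨k ⊗ₜ r, by
        rw [Algebra.TensorProduct.tmul_mul_tmul, mul_one, hr]
        rfl⟩
  have hx0 : (1 : F) ⊗ₜ[A] x = 0 := by
    haveI := hred
    exact (hnil.map (Algebra.TensorProduct.includeRight : B →ₐ[A] F ⊗[A] B)).eq_zero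
  obtain ⟨c, hc⟩ := hmul v
  rw [hx0, mul_zero] at hc
  exact hv (hinj (hc.trans (map_zero _).symm))

/-- A non reduced generic fibre gives non reduced nearby fibres. -/
theorem exists_not_reduced_near (A B K : Type u) [CommRing A] [IsDomain A] [CommRing B] [Algebra A B]
    [Algebra.FiniteType A B] [Field K] [Algebra A K] [IsFractionRing A K] (h : ¬ IsReduced (K ⊗[A] B)) :
    ∃ g : A, g ≠ 0 ∧ ∀ (F : Type u) [Field F] [Algebra A F], algebraMap A F g ≠ 0 →
      ¬ IsReduced (F ⊗[A] B) := by
  haveI : IsLocalizedModule (nonZeroDivisors A) (TensorProduct.mk A K B 1) := inferInstance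
  obtain ⟨y, hy, hy0⟩ : ∃ y : K ⊗[A] B, IsNilpotent y ∧ y ≠ 0 := by
    rw [isReduced_iff] at h
    push Not at h
    exact h
  obtain ⟨⟨b, s⟩, hbs⟩ := IsLocalizedModule.surj (nonZeroDivisors A) (TensorProduct.mk A K B 1) y
  have hb : ∀ a : A, a ≠ 0 → TensorProduct.mk A K B 1 (a • b) ≠ 0 := fun a ha h0 => hy0 <| by
    rw [map_smul, ← hbs] at h0
    have : algebraMap A K (a * s) • y = 0 := by
      rw [algebraMap_smul, mul_smul]
      exact h0
    exact (smul_eq_zero.mp this).resolve_left
      (IsFractionRing.to_map_ne_zero_of_mem_nonZeroDivisors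
        (mul_mem (mem_nonZeroDivisors_of_ne_zero ha) s.2))
  obtain ⟨k, hk⟩ : IsNilpotent (TensorProduct.mk A K B 1 b) := by
    rw [← hbs]
    exact hy.smul (s : A)
  rw [show TensorProduct.mk A K B 1 b = Algebra.TensorProduct.includeRight b from rfl, ← map_pow] at hk
  obtain ⟨⟨a, ha⟩, hak⟩ := (IsLocalizedModule.eq_zero_iff (nonZeroDivisors A) (TensorProduct.mk A K B 1)).mp hk
  refine exists_nilpotent_near A B (a • b) ⟨k + 1, ?_⟩ fun c hc h0 => ?_
  · have hak' : a • b ^ k = 0 := hak
    rw [smul_pow, pow_succ' a, mul_comm, mul_smul, pow_succ b, ← smul_mul_assoc, hak', zero_mul, smul_zero]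
  · exact hb (c * a) (mul_ne_zero hc (nonZeroDivisors.ne_zero ha)) (by rw [mul_smul, h0, map_zero])

/-- A generic fibre which is not geometrically reduced gives nearby fibres which are not geometrically
reduced. -/
theorem exists_not_geomReduced_near (A B K : Type u) [CommRing A] [IsDomain A] [CommRing B] [Algebra A B]
    [Algebra.FiniteType A B] [Field K] [Algebra A K]
    (hK : Function.Injective (algebraMap A K)) (h : ¬ IsReduced (K ⊗[A] B)) :
    ∃ g : A, g ≠ 0 ∧ ∀ (F : Type u) [Field F] [IsAlgClosed F] [Algebra A F], algebraMap A F g ≠ 0 →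
      ¬ IsReduced (F ⊗[A] B) := by
  classical
  obtain ⟨y, hy, hy0⟩ : ∃ y : K ⊗[A] B, IsNilpotent y ∧ y ≠ 0 := by
    rw [isReduced_iff] at h
    push Not at h
    exact h
  obtain ⟨S₁, hS₁, hmem⟩ := GrothLib.Approx6.exists_stage_lift (A := K) (Q := B) {y}
  obtain ⟨y₁, hy₁⟩ := hmem y (Finset.mem_singleton_self y)
  obtain ⟨k, hk⟩ := hy
  obtain ⟨T, hle, hT, hyT⟩ := GrothLib.Approx6.exists_stage_eq_zero (A := K) (Q := B) hS₁ (y₁ ^ k)
    (by rw [map_pow, hy₁, hk])
  let x := GrothLib.Approx6.mapQ (A := K) B hle y₁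
  haveI : Algebra.FiniteType A T := T.fg_iff_finiteType.mp hT
  haveI : Algebra.FiniteType T ((T : Type u) ⊗[A] B) := inferInstance
  have hinjT : Function.Injective (algebraMap A T) := fun a b hab => hK (congrArg Subtype.val hab)
  have hx : ∀ t : T, t ≠ 0 → t • x ≠ 0 := fun t ht h0 => hy0 <| by
    have h1 := congrArg (GrothLib.Approx6.toA B T) h0
    rw [show t • x = algebraMap T ((T : Type u) ⊗[A] B) t * x from Algebra.smul_def t x, map_mul, map_zero,
      GrothLib.Approx6.toA_mapQ, hy₁] at h1
    have h2 : GrothLib.Approx6.toA B T (algebraMap T ((T : Type u) ⊗[A] B) t) = algebraMap K (K ⊗[A] B) t := by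
      simp [GrothLib.Approx6.toA, Algebra.TensorProduct.algebraMap_apply]
    rw [h2, ← Algebra.smul_def] at h1
    exact (smul_eq_zero.mp h1).resolve_left fun h => ht (Subtype.ext h)
  obtain ⟨g', hg', hnear⟩ := exists_nilpotent_near T ((T : Type u) ⊗[A] B) x
    ⟨k, by rw [← map_pow]; exact hyT⟩ hx
  obtain ⟨g, hg, h1, h2⟩ := GrothLib.FibreDim6.exists_avoid_domain A T hinjT g' hg'
  refine ⟨g, hg, fun F _ _ _ hF => ?_⟩
  let p : PrimeSpectrum A := ⟨RingHom.ker (algebraMap A F), RingHom.ker_isPrime _⟩
  obtain ⟨w, hw⟩ := h2 p hF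
  obtain ⟨Q, -, hQ, hgQ⟩ := h1 w fun hgw => hF (show g ∈ p.asIdeal from hw ▸ hgw)
  -- an `F`-point of `T` at which `g'` does not vanish
  let U := Localization.Away g'
  haveI : Algebra.FiniteType A U := Algebra.FiniteType.trans ‹Algebra.FiniteType A T›
    (IsLocalization.finiteType_of_monoid_fg (Submonoid.powers g') U)
  haveI : Nontrivial (F ⊗[A] U) := by
    letI : Algebra U Q.asIdeal.ResidueField := (IsLocalization.Away.lift (S := U) g'
      (g := algebraMap T Q.asIdeal.ResidueField)
      (isUnit_iff_ne_zero.mpr fun h => hgQ (Ideal.algebraMap_residueField_eq_zero.mp h))).toAlgebra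
    haveI : IsScalarTower T U Q.asIdeal.ResidueField := IsScalarTower.of_algebraMap_eq fun z =>
      (IsLocalization.Away.lift_eq g' _ z).symm
    haveI : IsScalarTower A U Q.asIdeal.ResidueField := IsScalarTower.of_algebraMap_eq fun z => by
      rw [IsScalarTower.algebraMap_apply A T U, ← IsScalarTower.algebraMap_apply T U,
        ← IsScalarTower.algebraMap_apply A T]
    let p' := p.asIdeal
    haveI : p'.IsPrime := p.2
    have hp : p' = Q.asIdeal.comap (algebraMap A T) := hw.symm.trans hQ.symm
    letI : Algebra p'.ResidueField F := (Ideal.ResidueField.lift p' (algebraMap A F) le_rfl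
      (fun a ha => isUnit_iff_ne_zero.mpr ha)).toAlgebra
    letI : Algebra p'.ResidueField Q.asIdeal.ResidueField :=
      (Ideal.ResidueField.mapₐ p' Q.asIdeal (Algebra.ofId A T) hp).toRingHom.toAlgebra
    haveI : IsScalarTower A p'.ResidueField F := IsScalarTower.of_algebraMap_eq fun z => by
      simp [RingHom.algebraMap_toAlgebra]
    haveI : IsScalarTower A p'.ResidueField Q.asIdeal.ResidueField := IsScalarTower.of_algebraMap_eq fun z =>
      ((Ideal.ResidueField.mapₐ p' Q.asIdeal (Algebra.ofId A T) hp).commutes z).symm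
    haveI : Nontrivial (F ⊗[p'.ResidueField] Q.asIdeal.ResidueField) :=
      ((Module.Free.chooseBasis p'.ResidueField Q.asIdeal.ResidueField).baseChange F).repr.toEquiv.nontrivial
    let θ : F ⊗[A] U →ₐ[A] F ⊗[p'.ResidueField] Q.asIdeal.ResidueField :=
      Algebra.TensorProduct.lift (IsScalarTower.toAlgHom A F _)
        ((Algebra.TensorProduct.includeRight.restrictScalars A).comp (IsScalarTower.toAlgHom A U Q.asIdeal.ResidueField))
        fun _ _ => .all _ _
    exact θ.domain_nontrivial
  obtain ⟨ε⟩ := nonempty_point F (F ⊗[A] U)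
  let π : T →+* F := (ε.toRingHom.comp
    (Algebra.TensorProduct.includeRight (R := A) (A := F) (B := U)).toRingHom).comp (algebraMap T U)
  have hπA : π.comp (algebraMap A T) = algebraMap A F := RingHom.ext fun z => by
    show ε ((1 : F) ⊗ₜ algebraMap T U (algebraMap A T z)) = _
    rw [← IsScalarTower.algebraMap_apply, show (1 : F) ⊗ₜ[A] algebraMap A U z = algebraMap A (F ⊗[A] U) z from
      ((Algebra.TensorProduct.includeRight (R := A) (A := F) (B := U)).commutes z),
      IsScalarTower.algebraMap_apply A F (F ⊗[A] U)]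
    exact ε.commutes _
  letI : Algebra T F := π.toAlgebra
  haveI : IsScalarTower A T F := IsScalarTower.of_algebraMap_eq fun z => (congr($hπA z)).symm
  have hg0 : algebraMap T F g' ≠ 0 := by
    have : IsUnit (π g') := (IsLocalization.Away.algebraMap_isUnit (S := U) g').map
      (ε.toRingHom.comp (Algebra.TensorProduct.includeRight (R := A) (A := F) (B := U)).toRingHom)
    exact this.ne_zero
  refine fun hred => hnear F hg0 ?_
  exact isReduced_of_injective (Algebra.TensorProduct.cancelBaseChange A T F F B).toRingEquiv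
    (Algebra.TensorProduct.cancelBaseChange A T F F B).injective

end GrothLib.GeomRed6
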