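import Groth.Agent.Lib.GeomRed6.Smooth
import Groth.Agent.Lib.FibreDim6.Scheme
import Groth.Agent.Lib.CurveLocus.Basic

/-!
# Reduced and geometrically reduced fibres near the generic point
-/

universe u

open CategoryTheory Limits AlgebraicGeometry TopologicalSpace
open scoped TensorProduct

set_option linter.style.haveILetI false

noncomputable section

namespace GrothLib.GeomRed6

/-- The point of a morphism from the spectrum of a field. -/
abbrev pt {F : Type u} [Field F] {Y : Scheme.{u}} (t : Spec (CommRingCat.of F) ⟶ Y) : Y :=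
  t (IsLocalRing.closedPoint F)

theorem isReduced_pullback_iff_affine {X S : Scheme.{u}} (f : X ⟶ S) [IsAffine X] [IsAffine S]
    {F : Type u} [Field F] (t : Spec (CommRingCat.of F) ⟶ S) :
    ∃ alg : Algebra Γ(S, ⊤) F,
      @algebraMap Γ(S, ⊤) F _ _ alg = (Spec.preimage (t ≫ S.isoSpec.hom)).hom ∧
      RingHom.ker (@algebraMap Γ(S, ⊤) F _ _ alg) = (show PrimeSpectrum Γ(S, ⊤) from S.isoSpec.hom (pt t)).asIdeal ∧
      (IsReduced (pullback f t) ↔
        letI := f.appTop.hom.toAlgebra; _root_.IsReduced (F ⊗[Γ(S, ⊤)] Γ(X, ⊤))) := by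
  let φ : Γ(S, ⊤) ⟶ CommRingCat.of F := Spec.preimage (t ≫ S.isoSpec.hom)
  letI alg : Algebra Γ(S, ⊤) F := φ.hom.toAlgebra
  letI := f.appTop.hom.toAlgebra
  have hφ : Spec.map (CommRingCat.ofHom (algebraMap Γ(S, ⊤) F)) = t ≫ S.isoSpec.hom := Spec.map_preimage _
  refine ⟨alg, rfl, ?_, ?_⟩
  · have h : (show PrimeSpectrum Γ(S, ⊤) from S.isoSpec.hom (pt t)) =
        PrimeSpectrum.comap (algebraMap Γ(S, ⊤) F) (IsLocalRing.closedPoint F) := by
      show S.isoSpec.hom (t _) = _
      rw [← Scheme.Hom.comp_apply, ← hφ]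
      rfl
    rw [h, PrimeSpectrum.comap_asIdeal]
    show RingHom.ker _ = Ideal.comap _ (IsLocalRing.maximalIdeal F)
    rw [IsLocalRing.maximalIdeal_eq_bot, RingHom.ker_eq_comap_bot]
  · have h1 : IsPullback (pullback.fst (Spec.map (CommRingCat.ofHom (algebraMap Γ(S, ⊤) Γ(X, ⊤))))
        (t ≫ S.isoSpec.hom) ≫ X.isoSpec.inv) (pullback.snd _ _) f t := by
      have hsq : IsPullback X.isoSpec.inv (Spec.map f.appTop) f S.isoSpec.inv :=
        IsPullback.of_horiz_isIso ⟨(Scheme.isoSpec_inv_naturality f).symm⟩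
      have := (IsPullback.of_hasPullback (Spec.map f.appTop) (t ≫ S.isoSpec.hom)).paste_horiz hsq
      rw [Category.assoc, Iso.hom_inv_id, Category.comp_id] at this
      exact this
    let e : pullback f t ≅ Spec (CommRingCat.of (F ⊗[Γ(S, ⊤)] Γ(X, ⊤))) :=
      h1.isoPullback.symm ≪≫ pullback.congrHom rfl hφ.symm ≪≫ pullbackSpecIso Γ(S, ⊤) Γ(X, ⊤) F ≪≫
        Scheme.Spec.mapIso (Algebra.TensorProduct.comm Γ(S, ⊤) F Γ(X, ⊤)).toRingEquiv.toCommRingCatIso.op
    constructor
    · intro h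
      haveI := isReduced_of_isOpenImmersion e.inv
      exact (affine_isReduced_iff (CommRingCat.of (F ⊗[Γ(S, ⊤)] Γ(X, ⊤)))).1 inferInstance
    · intro h
      haveI : IsReduced (Spec (CommRingCat.of (F ⊗[Γ(S, ⊤)] Γ(X, ⊤)))) := (affine_isReduced_iff _).2 h
      exact isReduced_of_isOpenImmersion e.hom

theorem baseChange_ker {A F : Type u} [CommRing A] [Field F] [Algebra A F] (I : Ideal A)
    (h : I ≤ RingHom.ker (algebraMap A F)) :
    ∃ alg : Algebra (A ⧸ I) F, @IsScalarTower A (A ⧸ I) F _ alg.toSMul _ :=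
  ⟨(Ideal.Quotient.lift I (algebraMap A F) h).toAlgebra,
    @IsScalarTower.of_algebraMap_eq A (A ⧸ I) F _ _ _ _ (Ideal.Quotient.lift I (algebraMap A F) h).toAlgebra _
      fun _ => rfl⟩

/-- All field points with kernel in `U` have reduced fibres. -/
def RedOn (A B : Type u) [CommRing A] [CommRing B] [Algebra A B] (U : Set (PrimeSpectrum A)) : Prop :=
  ∀ (F : Type u) [Field F] [Algebra A F],
    (⟨RingHom.ker (algebraMap A F), RingHom.ker_isPrime _⟩ : PrimeSpectrum A) ∈ U → _root_.IsReduced (F ⊗[A] B)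

/-- No field point with kernel in `U` has reduced fibre. -/
def NotRedOn (A B : Type u) [CommRing A] [CommRing B] [Algebra A B] (U : Set (PrimeSpectrum A)) : Prop :=
  ∀ (F : Type u) [Field F] [Algebra A F],
    (⟨RingHom.ker (algebraMap A F), RingHom.ker_isPrime _⟩ : PrimeSpectrum A) ∈ U → ¬ _root_.IsReduced (F ⊗[A] B)

/-- No algebraically closed point with kernel in `U` has reduced fibre. -/
def NotRedOnClosed (A B : Type u) [CommRing A] [CommRing B] [Algebra A B] (U : Set (PrimeSpectrum A)) : Prop :=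
  ∀ (F : Type u) [Field F] [IsAlgClosed F] [Algebra A F],
    (⟨RingHom.ker (algebraMap A F), RingHom.ker_isPrime _⟩ : PrimeSpectrum A) ∈ U → ¬ _root_.IsReduced (F ⊗[A] B)

/-- Transfer from the reduced base. -/
theorem isReduced_tensor_iff (A A' B F : Type u) [CommRing A] [CommRing A'] [CommRing B] [Field F] [Algebra A A']
    [Algebra A B] [Algebra A F] [Algebra A' F] [IsScalarTower A A' F] :
    _root_.IsReduced (F ⊗[A] B) ↔ _root_.IsReduced (F ⊗[A'] (A' ⊗[A] B)) :=
  ⟨fun _ => isReduced_of_injective (Algebra.TensorProduct.cancelBaseChange A A' F F B)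
      (Algebra.TensorProduct.cancelBaseChange A A' F F B).injective,
    fun _ => isReduced_of_injective (Algebra.TensorProduct.cancelBaseChange A A' F F B).symm
      (Algebra.TensorProduct.cancelBaseChange A A' F F B).symm.injective⟩

theorem exists_geomRed_dichotomy (A B : Type u) [CommRing A] [CommRing B] [Algebra A B] [Algebra.FiniteType A B]
    [IrreducibleSpace (PrimeSpectrum A)] :
    ∃ U : Set (PrimeSpectrum A), IsOpen U ∧ U.Nonempty ∧ (RedOn A B U ∨ NotRedOnClosed A B U) := by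
  let N := nilradical A
  have hN : N.IsPrime := PrimeSpectrum.irreducibleSpace_iff_isPrime_nilradical.mp ‹_›
  let A' := A ⧸ N
  have hmem : ∀ g : A, Ideal.Quotient.mk N g ≠ 0 → (⟨N, hN⟩ : PrimeSpectrum A) ∈ (PrimeSpectrum.basicOpen g : Set _) :=
    fun g hg h => hg (Ideal.Quotient.eq_zero_iff_mem.mpr h)
  by_cases h : _root_.IsReduced (AlgebraicClosure (FractionRing A') ⊗[A'] (A' ⊗[A] B))
  · obtain ⟨g, hg, hnear⟩ := exists_geomReduced_near A' (A' ⊗[A] B)
    obtain ⟨g, rfl⟩ := Ideal.Quotient.mk_surjective g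
    refine ⟨_, PrimeSpectrum.isOpen_basicOpen, ⟨_, hmem g hg⟩, Or.inl fun F _ _ hF => ?_⟩
    obtain ⟨alg, htow⟩ := baseChange_ker (F := F) N (@nilradical_le_prime A _ (RingHom.ker (algebraMap A F)) (RingHom.ker_isPrime _))
    letI := alg
    haveI := htow
    exact (isReduced_tensor_iff A A' B F).mpr (hnear F fun h0 => hF (RingHom.mem_ker.mpr
      ((IsScalarTower.algebraMap_apply A A' F g).trans h0)))
  · have hinj : Function.Injective (algebraMap A' (AlgebraicClosure (FractionRing A'))) := by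
      rw [IsScalarTower.algebraMap_eq A' (FractionRing A') (AlgebraicClosure (FractionRing A')), RingHom.coe_comp]
      exact (RingHom.injective _).comp (IsFractionRing.injective A' (FractionRing A'))
    obtain ⟨g, hg, hnear⟩ := exists_not_geomReduced_near A' (A' ⊗[A] B) _ hinj h
    obtain ⟨g, rfl⟩ := Ideal.Quotient.mk_surjective g
    refine ⟨_, PrimeSpectrum.isOpen_basicOpen, ⟨_, hmem g hg⟩, Or.inr fun F _ _ _ hF => ?_⟩
    obtain ⟨alg, htow⟩ := baseChange_ker (F := F) N (@nilradical_le_prime A _ (RingHom.ker (algebraMap A F)) (RingHom.ker_isPrime _))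
    letI := alg
    haveI := htow
    exact fun hred => hnear F (fun h0 => hF (RingHom.mem_ker.mpr
      ((IsScalarTower.algebraMap_apply A A' F g).trans h0))) ((isReduced_tensor_iff A A' B F).mp hred)

theorem exists_notRed (A B : Type u) [CommRing A] [CommRing B] [Algebra A B] [Algebra.FiniteType A B]
    [IrreducibleSpace (PrimeSpectrum A)] (F₀ : Type u) [Field F₀] [Algebra A F₀]
    (hker : RingHom.ker (algebraMap A F₀) = nilradical A)
    (hfrac : ∀ x : F₀, ∃ a b : A, algebraMap A F₀ b ≠ 0 ∧ algebraMap A F₀ b * x = algebraMap A F₀ a)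
    (h : ¬ _root_.IsReduced (F₀ ⊗[A] B)) :
    ∃ U : Set (PrimeSpectrum A), IsOpen U ∧ U.Nonempty ∧ NotRedOn A B U := by
  let N := nilradical A
  have hN : N.IsPrime := PrimeSpectrum.irreducibleSpace_iff_isPrime_nilradical.mp ‹_›
  let A' := A ⧸ N
  obtain ⟨alg, htow⟩ := baseChange_ker (F := F₀) N hker.symm.le
  letI := alg
  haveI := htow
  have hinj : Function.Injective (algebraMap A' F₀) := (injective_iff_map_eq_zero _).mpr fun x hx => by
    obtain ⟨x, rfl⟩ := Ideal.Quotient.mk_surjective x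
    exact Ideal.Quotient.eq_zero_iff_mem.mpr (hker.le ((IsScalarTower.algebraMap_apply A A' F₀ x).trans hx))
  haveI : FaithfulSMul A' F₀ := (faithfulSMul_iff_algebraMap_injective A' F₀).mpr hinj
  haveI : IsFractionRing A' F₀ := IsFractionRing.of_field A' F₀ fun x => by
    obtain ⟨a, b, hb, hab⟩ := hfrac x
    refine ⟨Ideal.Quotient.mk N a, Ideal.Quotient.mk N b, ?_⟩
    show x = algebraMap A' F₀ (algebraMap A A' a) / algebraMap A' F₀ (algebraMap A A' b)
    rw [← IsScalarTower.algebraMap_apply, ← IsScalarTower.algebraMap_apply, eq_div_iff hb, mul_comm]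
    exact hab
  obtain ⟨g, hg, hnear⟩ := exists_not_reduced_near A' (A' ⊗[A] B) F₀
    fun hr => h ((isReduced_tensor_iff A A' B F₀).mpr hr)
  obtain ⟨g, rfl⟩ := Ideal.Quotient.mk_surjective g
  refine ⟨_, PrimeSpectrum.isOpen_basicOpen,
    ⟨⟨N, hN⟩, show (⟨N, hN⟩ : PrimeSpectrum A) ∈ (PrimeSpectrum.basicOpen g : Set _) from
      fun h => hg (Ideal.Quotient.eq_zero_iff_mem.mpr h)⟩, fun F _ _ hF => ?_⟩
  obtain ⟨alg', htow'⟩ := baseChange_ker (F := F) N (@nilradical_le_prime A _ (RingHom.ker (algebraMap A F)) (RingHom.ker_isPrime _))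
  letI := alg'
  haveI := htow'
  exact fun hred => hnear F (fun h0 => hF (RingHom.mem_ker.mpr
    ((IsScalarTower.algebraMap_apply A A' F g).trans h0))) ((isReduced_tensor_iff A A' B F).mp hred)

end GrothLib.GeomRed6
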